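import Groth.Agent.Etbc.H236.RpushVan
import Groth.Agent.Etbc.H209.Induct
import Mathlib.RingTheory.LittleWedderburn
import Mathlib.AlgebraicGeometry.Noetherian

/-!
# `ℓ`-cohomological dimension of schemes quasi-finite over `ℤ`, from the case of number fields

`main`: if `cd_ℓ(K) ≤ 3` for all (non-orderable if `ℓ = 2`) number fields `K`, then `cd_ℓ(X) ≤ 3` for every scheme
`X` quasi-finite over `ℤ` (no orderable residue field of characteristic zero if `ℓ = 2`).
-/

set_option autoImplicit false
universe u
open CategoryTheory CategoryTheory.Limits AlgebraicGeometry Opposite IsLocalRing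

namespace Groth.Agent.Etbc.H236.QFMain

open Groth.Agent.Etbc.H236.ResZ

/-- `cd(k) ≤ 1` for finite fields `k`. -/
theorem cohDimLE_one_of_finite (k : Type u) [Field k] [Finite k] :
    EtCoh.CohDimLE (Spec (CommRingCat.of k)) 1 := by
  intro F hF q hq
  refine Groth.Agent.S0208.result k (fun K' _ _ _ D _ _ _ _ => ?_) F hF q hq
  have : Finite K' := Module.finite_of_finite k
  have : Finite D := Module.finite_of_finite K'
  let _ : Field D := littleWedderburn D
  have hc : ∀ d : D, d ∈ (⊥ : Subalgebra K' D) := by
    intro d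
    rw [← Algebra.IsCentral.center_eq_bot K' D, Subalgebra.mem_center_iff]
    intro b
    exact mul_comm b d
  have htop : (⊥ : Subalgebra K' D) = ⊤ := by
    rw [eq_top_iff]
    intro d _
    exact hc d
  exact Subalgebra.bot_eq_top_iff_finrank_eq_one.1 htop

variable {X : Scheme.{u}} (f : X ⟶ Spec (CommRingCat.of (ULift.{u} ℤ)))

section residue

variable [LocallyQuasiFinite f] (x : X)

theorem finite_residueField (hx : (f x).asIdeal ≠ ⊥) : Finite (X.residueField x) := by
  have hp : (f x).asIdeal.IsPrime := (f x).isPrime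
  let e := (Scheme.Spec.residueFieldIso (CommRingCat.of (ULift.{u} ℤ)) (f x)).commRingCatIsoToRingEquiv
  have h1 : Finite (CommRingCat.of (f x).asIdeal.ResidueField) :=
    finite_residueField_of_ne_bot (f x).asIdeal hx
  have h2 : Finite ((Spec (CommRingCat.of (ULift.{u} ℤ))).residueField (f x)) :=
    Finite.of_equiv _ e.symm.toEquiv
  have h3 := finite_residueFieldMap f x
  let _ : Algebra ((Spec (CommRingCat.of (ULift.{u} ℤ))).residueField (f x)) (X.residueField x) :=
    (f.residueFieldMap x).hom.toAlgebra
  have h4 : Module.Finite ((Spec (CommRingCat.of (ULift.{u} ℤ))).residueField (f x))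
    (X.residueField x) := h3
  exact Module.finite_of_finite ((Spec (CommRingCat.of (ULift.{u} ℤ))).residueField (f x))

theorem charZero_finite (hx : (f x).asIdeal = ⊥) :
    ∃ _ : CharZero (X.residueField x), Module.Finite ℚ (X.residueField x) := by
  have hp : (f x).asIdeal.IsPrime := (f x).isPrime
  let e := (Scheme.Spec.residueFieldIso (CommRingCat.of (ULift.{u} ℤ)) (f x)).commRingCatIsoToRingEquiv
  have h0 : CharZero (f x).asIdeal.ResidueField := charZero_residueField (f x).asIdeal hx
  have h1 : Module.Finite ℚ (f x).asIdeal.ResidueField := finite_rat_residueField (f x).asIdeal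
  let L := (Spec (CommRingCat.of (ULift.{u} ℤ))).residueField (f x)
  let e' : L ≃+* (f x).asIdeal.ResidueField := e
  have h2 : CharZero L := charZero_of_injective_ringHom (f := e'.symm.toRingHom) e'.symm.injective
  have h3 : Module.Finite ℚ L := by
    have hs : Function.Surjective (algebraMap ℚ L) := by
      intro z
      obtain ⟨r, hr⟩ := surjective_rat (f x).asIdeal (e' z)
      refine ⟨r, e'.injective ?_⟩
      rw [← hr]
      have : (e' : L →+* (f x).asIdeal.ResidueField).comp (algebraMap ℚ L) = algebraMap ℚ _ :=
        Subsingleton.elim _ _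
      exact congrArg (fun g : ℚ →+* (f x).asIdeal.ResidueField => g r) this
    exact Module.Finite.of_surjective (Algebra.linearMap ℚ L) hs
  have h4 := finite_residueFieldMap f x
  let _ : Algebra L (X.residueField x) := (f.residueFieldMap x).hom.toAlgebra
  have h5 : Module.Finite L (X.residueField x) := h4
  have h6 : CharZero (X.residueField x) :=
    charZero_of_injective_algebraMap (algebraMap L (X.residueField x)).injective
  have hQ : (algebraMap ℚ (X.residueField x)) =
    (algebraMap L (X.residueField x)).comp (algebraMap ℚ L) := Subsingleton.elim _ _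
  have h7 : IsScalarTower ℚ L (X.residueField x) := IsScalarTower.of_algebraMap_eq' hQ
  exact ⟨h6, Module.Finite.trans L _⟩

/-- Proper specializations go from characteristic zero to positive characteristic. -/
theorem ideal_of_specializes (y : X) (h : x ⤳ y) (hne : x ≠ y) :
    (f x).asIdeal = ⊥ ∧ (f y).asIdeal ≠ ⊥ := by
  have h1 : f x ⤳ f y := h.map f.continuous
  have h2 : (f x).asIdeal ≤ (f y).asIdeal := (PrimeSpectrum.le_iff_specializes _ _).2 h1
  have h3 : f x ≠ f y := by
    intro he
    have hd := f.isDiscrete_preimage_singleton (f x)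
    apply hne
    have hT := hd.to_subtype
    have hx : x ∈ f ⁻¹' {f x} := rfl
    have hy : y ∈ f ⁻¹' {f x} := he.symm
    have h4 : (⟨x, hx⟩ : f ⁻¹' {f x}) ⤳ ⟨y, hy⟩ := by
      rw [← Topology.IsInducing.subtypeVal.specializes_iff]
      exact h
    exact congrArg Subtype.val h4.eq
  have h5 : (f x).asIdeal ≠ (f y).asIdeal := fun h => h3 (PrimeSpectrum.ext h)
  have hpx : (f x).asIdeal.IsPrime := (f x).isPrime
  have hpy : (f y).asIdeal.IsPrime := (f y).isPrime
  have hx : (f x).asIdeal = ⊥ := by
    by_contra hx
    have hmax : (f x).asIdeal.IsMaximal := IsPrime.to_maximal_ideal hx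
    exact h5 (hmax.eq_of_le hpy.ne_top h2)
  exact ⟨hx, fun hy => h5 (hx.trans hy.symm)⟩

end residue

open Classical in
/-- **Main theorem**, from the case of number fields. -/
theorem main [LocallyQuasiFinite f] [LocallyOfFiniteType f] [QuasiCompact f] (ℓ : ℕ) (hℓ : ℓ.Prime)
    (hNF : ∀ (K : Type u) [Field K] [CharZero K] [Module.Finite ℚ K],
      (ℓ ≠ 2 ∨ ¬ ∃ _ : LinearOrder K, IsStrictOrderedRing K) →
        Dix.CohDimLEAt (Spec (CommRingCat.of K)) ℓ 3)
    (hord : ℓ ≠ 2 ∨ ∀ x : X, ringChar (X.residueField x) = 0 →
      ¬ ∃ _ : LinearOrder (X.residueField x), IsStrictOrderedRing (X.residueField x)) :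
    Dix.CohDimLEAt X ℓ 3 := by
  have hℓ0 : ℓ ≠ 0 := hℓ.ne_zero
  have hZ : IsNoetherianRing (ULift.{u} ℤ) := inferInstance
  have hN1 : IsLocallyNoetherian X := LocallyOfFiniteType.isLocallyNoetherian f
  have hN2 : CompactSpace X := QuasiCompact.compactSpace_of_compactSpace f
  have hN : IsNoetherian X := {}
  let φ : X → ℕ := fun x => if (f x).asIdeal = ⊥ then 3 else 1
  have hφ : ∀ x y : X, x ⤳ y → x ≠ y → φ y < φ x := by
    intro x y h hne
    obtain ⟨h1, h2⟩ := ideal_of_specializes f x y h hne
    simp only [φ, h1, h2, if_true, if_false]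
    norm_num
  have h1 : ∀ x : X, Dix.CohDimLEAt (Spec (X.residueField x)) ℓ (φ x) := by
    intro x
    by_cases hx : (f x).asIdeal = ⊥
    · obtain ⟨h0, h1⟩ := charZero_finite f x hx
      simp only [φ, hx, if_true]
      refine hNF (X.residueField x) (hord.imp_right fun h => h x ?_)
      exact ringChar.eq_zero
    · have := finite_residueField f x hx
      simp only [φ, hx, if_false]
      exact IntCore.cohDimLEAt_of_cohDimLE hℓ0 1 (cohDimLE_one_of_finite (X.residueField x))
  have hB : ∀ (x : X) (G : EtCoh.Ab (Spec (X.residueField x))), Dix.IsPrimaryTorsion ℓ G →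
      ∀ q : ℕ, ∀ y ∈ EtPBC.supp ((EtCoh.Rpush (X.fromSpecResidueField x) (q + 1)).obj G),
        φ y + (q + 1) < φ x := by
    intro x G hG q y hy
    by_cases hx : (f x).asIdeal = ⊥
    · obtain ⟨h0, h1⟩ := charZero_finite f x hx
      have key := fun hq => RpushVan.not_mem_supp f x y hℓ0 G hG (q + 1) hq hy
      by_cases hy0 : (f y).asIdeal = ⊥
      · exact (key (Or.inr ⟨by omega, hy0⟩)).elim
      · have hq : q = 0 := by
          by_contra hq
          exact key (Or.inl (by omega))
        simp only [φ, hx, hy0, if_true, if_false, hq]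
        norm_num
    · exfalso
      have hcl : IsClosed ({x} : Set X) := by
        rw [← closure_subset_iff_isClosed]
        intro z hz
        rw [← specializes_iff_mem_closure] at hz
        by_contra hne
        exact hx (ideal_of_specializes f x z hz (fun h => hne h.symm)).1
      have hci : IsClosedImmersion (X.fromSpecResidueField x) :=
        isClosed_singleton_iff_isClosedImmersion.1 hcl
      have h0 := Sga4A.EtSplit.isZero_Rpush (X.fromSpecResidueField x) G (q + 1) (by omega)
      exact EtpbcA.Artin.supp_eq_empty_of_isZero h0 y hy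
  intro F hF n hn
  refine H209.Induct.induct ℓ φ hφ h1 hB 4 F hF (fun x _ => ?_) n (by omega)
  by_cases hx : (f x).asIdeal = ⊥
  · simp only [φ, hx, if_true]
    norm_num
  · simp only [φ, hx, if_false]
    norm_num

end Groth.Agent.Etbc.H236.QFMain
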