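import Groth.Agent.Etbc.H205.AlgExt
import Groth.Agent.Etbc.H227.BrDvr
import Groth.Agent.Etbc.H227.CdIso
import Groth.Agent.Sga4A.IntegralSection

/-!
# Cohomological dimension of integral schemes over `ℚ` receiving a strictly henselian ring

`cohDimLEAt_core`: let `B` be an integral `ℚ`-algebra and `A → B` a ring map with `A` a strictly henselian
discrete valuation ring with algebraically closed residue field of positive characteristic (resp. an algebraically
closed field).  Then `cd_ℓ(Spec B) ≤ 1` (resp. `≤ 0`).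
-/

set_option autoImplicit false
universe u
open CategoryTheory CategoryTheory.Limits AlgebraicGeometry Opposite IsLocalRing

namespace Groth.Agent.Etbc.H236.IntCore

theorem isIntegralHom_of_isIntegral (K B : Type u) [CommRing K] [CommRing B] [Algebra K B]
    [Algebra.IsIntegral K B] : IsIntegralHom (Spec.map (CommRingCat.ofHom (algebraMap K B))) := by
  rw [IsIntegralHom.SpecMap_iff]
  exact algebraMap_isIntegral_iff.2 inferInstance

theorem cohDimLEAt_of_cohDimLE {X : Scheme.{u}} {ℓ : ℕ} (hℓ : ℓ ≠ 0) (d : ℕ)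
    (h : EtCoh.CohDimLE X d) : Dix.CohDimLEAt X ℓ d := fun F hF q hq =>
  h F (H205.AlgExt.isTorsion_of_isPrimaryTorsion hℓ hF) q hq

theorem cohDimLEAt_of_isIntegral (K B : Type u) [CommRing K] [CommRing B] [Algebra K B]
    [Algebra.IsIntegral K B] {ℓ : ℕ} (hℓ : ℓ ≠ 0) (d : ℕ)
    (h : Dix.CohDimLEAt (Spec (CommRingCat.of K)) ℓ d) :
    Dix.CohDimLEAt (Spec (CommRingCat.of B)) ℓ d := by
  have := isIntegralHom_of_isIntegral K B
  refine H205.AlgExt.cohDimLEAt_of_relCohDimLE_zero hℓ
    (Spec.map (CommRingCat.ofHom (algebraMap K B))) (fun F _ q hq => ?_) d h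
  exact Sga4A.EtSplit.isZero_Rpush _ F q hq

theorem cohDimLEAt_zero_of_isAlgClosed (K : Type u) [Field K] [IsAlgClosed K] {ℓ : ℕ} (hℓ : ℓ ≠ 0) :
    Dix.CohDimLEAt (Spec (CommRingCat.of K)) ℓ 0 :=
  cohDimLEAt_of_cohDimLE hℓ 0 (EtpbcA.CdRel.cohDimLE_zero_of_isIntegral K K)

section

variable (A B : Type u) [CommRing A] [IsDomain A] [IsLocalRing A] [CommRing B] [Algebra ℚ B]
  (φ : A →+* B)

omit [IsDomain A] [IsLocalRing A] in
include φ in
theorem charZero_of_hom [Nontrivial B] : CharZero A := by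
  refine ⟨fun a b hab => ?_⟩
  have : CharZero B := algebraRat.charZero B
  have h3 := congrArg φ hab
  rw [map_natCast, map_natCast] at h3
  exact_mod_cast h3

theorem isUnit_of_ne_zero [CharZero A]
    (hfield : IsField A ∨ (IsDiscreteValuationRing A ∧ ∃ n : ℤ, n ≠ 0 ∧ (n : A) ∈ maximalIdeal A))
    (a : A) (ha : a ≠ 0) : IsUnit (φ a) := by
  rcases hfield with hA | ⟨hA, n, hn0, hn⟩
  · obtain ⟨b, hb⟩ := hA.mul_inv_cancel ha
    exact (IsUnit.of_mul_eq_one b hb).map φ
  · have hn0' : (n : A) ≠ 0 := by exact_mod_cast hn0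
    obtain ⟨ϖ, hϖ⟩ := IsDiscreteValuationRing.exists_irreducible A
    obtain ⟨k, hk⟩ := IsDiscreteValuationRing.associated_pow_irreducible ha hϖ
    obtain ⟨e, he⟩ := IsDiscreteValuationRing.associated_pow_irreducible hn0' hϖ
    have he0 : e ≠ 0 := by
      rintro rfl
      rw [pow_zero] at he
      exact (mem_maximalIdeal _).1 hn (associated_one_iff_isUnit.1 he)
    have hdvd : a ∣ (n : A) ^ k := by
      refine hk.dvd.trans (dvd_trans ?_ (he.pow_pow (n := k)).symm.dvd)
      rw [← pow_mul]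
      exact pow_dvd_pow ϖ (Nat.le_mul_of_pos_left k (Nat.pos_of_ne_zero he0))
    have hu : IsUnit (φ ((n : A) ^ k)) := by
      rw [map_pow, map_intCast]
      have h2 : ((n : ℤ) : B) = algebraMap ℚ B (n : ℚ) := by rw [map_intCast]
      rw [h2]
      exact ((IsUnit.mk0 (n : ℚ) (by exact_mod_cast hn0)).map (algebraMap ℚ B)).pow k
    exact isUnit_of_dvd_unit (map_dvd φ hdvd) hu

end

/-- The core vanishing theorem. -/
theorem cohDimLEAt_core (A B : Type u) [CommRing A] [IsDomain A] [IsLocalRing A]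
    (h1 : HenselianLocalRing A) (h2 : IsAlgClosed (ResidueField A))
    [CommRing B] [Algebra ℚ B] [Algebra.IsIntegral ℚ B] (φ : A →+* B)
    (hfield : IsField A ∨ (IsDiscreteValuationRing A ∧ ∃ n : ℤ, n ≠ 0 ∧ (n : A) ∈ maximalIdeal A))
    (ℓ : ℕ) (hℓ : ℓ ≠ 0) [Nontrivial B] :
    Dix.CohDimLEAt (Spec (CommRingCat.of B)) ℓ 1 ∧
      (IsField A → Dix.CohDimLEAt (Spec (CommRingCat.of B)) ℓ 0) := by
  have hA0 : CharZero A := charZero_of_hom A B φ
  have hu := isUnit_of_ne_zero A B φ hfield
  let K := FractionRing A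
  let ψ : K →+* B := IsLocalization.lift (M := nonZeroDivisors A) (g := φ)
    fun y => hu y (nonZeroDivisors.ne_zero y.2)
  let _ : Algebra K B := ψ.toAlgebra
  have hK0 : CharZero K := charZero_of_injective_algebraMap (IsFractionRing.injective A K)
  have hQ : (algebraMap ℚ B) = (algebraMap K B).comp (algebraMap ℚ K) := Subsingleton.elim _ _
  have : IsScalarTower ℚ K B := IsScalarTower.of_algebraMap_eq' hQ
  have hint : Algebra.IsIntegral K B := Algebra.IsIntegral.tower_top (R := ℚ)
  have hfieldcase : IsField A → Dix.CohDimLEAt (Spec (CommRingCat.of B)) ℓ 0 := by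
    intro hA
    have hs : Function.Surjective (algebraMap A K) := IsFractionRing.surjective_iff_isField.2 hA
    have hb1 : Function.Bijective (algebraMap A K) := ⟨IsFractionRing.injective A K, hs⟩
    have hb2 : Function.Bijective (residue A) := by
      refine ⟨?_, residue_surjective⟩
      rw [injective_iff_map_eq_zero]
      intro a ha
      rw [residue_eq_zero_iff, mem_maximalIdeal, mem_nonunits_iff] at ha
      by_contra h0
      obtain ⟨b, hb⟩ := hA.mul_inv_cancel h0
      exact ha (IsUnit.of_mul_eq_one b hb)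
    have hac : IsAlgClosed K := IsAlgClosed.of_ringEquiv (ResidueField A) K
      ((RingEquiv.ofBijective _ hb2).symm.trans (RingEquiv.ofBijective _ hb1))
    exact cohDimLEAt_of_isIntegral K B hℓ 0 (cohDimLEAt_zero_of_isAlgClosed K hℓ)
  refine ⟨?_, hfieldcase⟩
  rcases hfield with hA | ⟨hA, n, hn0, hn⟩
  · exact H227.CdIso.cohDimLEAt_mono zero_le_one (hfieldcase hA)
  · exact cohDimLEAt_of_isIntegral K B hℓ 1
      (cohDimLEAt_of_cohDimLE hℓ 1 (H227.BrDvr.cohDimLE_one A K))

end Groth.Agent.Etbc.H236.IntCore
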