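import Groth.Agent.Etalg.SepElt
import Groth.Agent.Etrest.StrictLoc
import Mathlib.AlgebraicGeometry.Morphisms.Integral

/-!
# Weakly étale schemes over fields are integral

* `isIntegral_of_weaklyEtale`: a weakly étale algebra over a field is integral;
* `isAffineHom_fromSpecResidueField`: `Spec κ(x) → X` is an affine morphism.
-/

set_option autoImplicit false
universe u
open CategoryTheory CategoryTheory.Limits AlgebraicGeometry Opposite

namespace Groth.Agent.Etbc.H236.WeField

open Groth.Agent.Etalg.SepElt

theorem isIntegral_of_weaklyEtale (K B : Type u) [Field K] [CommRing B] [Algebra K B]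
    [Algebra.WeaklyEtale K B] : Algebra.IsIntegral K B := by
  refine ⟨fun b => ?_⟩
  have hle : Algebra.adjoin K {b} ≤ sepElt K B := by
    rw [sepElt_eq_top_of_weaklyEtale K B]
    exact le_top
  have hfg : (Algebra.adjoin K {b}).FG := ⟨{b}, by simp⟩
  have h1 : Module.Finite K (Algebra.adjoin K {b}) := finite_of_le_sepElt hle hfg
  have h2 : IsIntegral K (⟨b, Algebra.subset_adjoin rfl⟩ : Algebra.adjoin K {b}) :=
    Algebra.IsIntegral.isIntegral _
  exact h2.map (Algebra.adjoin K {b}).val

instance isAffineHom_fromSpecResidueField (X : Scheme.{u}) (x : X) :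
    IsAffineHom (X.fromSpecResidueField x) := by
  constructor
  intro U _
  by_cases hx : x ∈ U
  · have h : X.fromSpecResidueField x ⁻¹ᵁ U = ⊤ := by
      ext z
      simp only [TopologicalSpace.Opens.map_coe, Set.mem_preimage, SetLike.mem_coe,
        TopologicalSpace.Opens.coe_top, Set.mem_univ, iff_true]
      rw [Scheme.fromSpecResidueField_apply]
      exact hx
    rw [h]
    exact isAffineOpen_top _
  · have h : X.fromSpecResidueField x ⁻¹ᵁ U = ⊥ := by
      ext z
      simp only [TopologicalSpace.Opens.map_coe, Set.mem_preimage, SetLike.mem_coe,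
        TopologicalSpace.Opens.coe_bot, Set.mem_empty_iff_false, iff_false]
      rw [Scheme.fromSpecResidueField_apply]
      exact hx
    rw [h]
    exact isAffineOpen_bot _

end Groth.Agent.Etbc.H236.WeField
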