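import Groth.Agent.Etbc.H236.StrictZ
import Groth.Agent.Etbc.H236.WeField
import Groth.Agent.Etbc.H236.IntCore
import Groth.Agent.Etbc.H216.StrictLocEt

/-!
# Higher direct images from points of characteristic zero of a scheme over `ℤ`

`not_mem_supp`: let `X` be a scheme over `Spec ℤ` and `x` a point such that `κ(x)` is a finite extension of `ℚ`.
For an `ℓ`-primary torsion sheaf `G` on `Spec κ(x)` the sheaf `R^q i_{x*} G` vanishes at all points for `q ≥ 2`, and
at the points over the generic point of `Spec ℤ` for `q ≥ 1`.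
-/

set_option autoImplicit false
universe u
open CategoryTheory CategoryTheory.Limits AlgebraicGeometry Opposite IsLocalRing

namespace Groth.Agent.Etbc.H236.RpushVan

open Groth.Agent.Etbc.H236.ResZ Groth.Agent.Etrest.StrictLoc

theorem cohDimLEAt_of_isEmpty (X : Scheme.{u}) [IsEmpty X] (ℓ d : ℕ) : Dix.CohDimLEAt X ℓ d := by
  intro F _ q _
  have h0 : IsZero F := Groth.Agent.EtpbcA.Artin.isZero_of_forall F fun x _ => isEmptyElim x
  exact Sheaf.subsingleton_H_of_isZero h0 q

/-- The pullback of `Spec κ(x) → X ← Spec R` is the spectrum of an integral `κ(x)`-algebra, for a strict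
localization `Spec R → X`. -/
theorem exists_ring (X : Scheme.{u}) (x : X) {R : Type u} [CommRing R] [IsLocalRing R]
    {p : Spec (CommRingCat.of R) ⟶ X} (hp : IsStrictLoc p) :
    ∃ (B : Type u) (_ : CommRing B) (_ : Algebra (X.residueField x) B)
      (f' : Spec (CommRingCat.of B) ⟶ Spec (CommRingCat.of R)),
      Algebra.IsIntegral (X.residueField x) B ∧
      IsPullback (Spec.map (CommRingCat.ofHom (algebraMap (X.residueField x) B)) :
        Spec (CommRingCat.of B) ⟶ Spec (X.residueField x)) f' (X.fromSpecResidueField x) p := by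
  let i := X.fromSpecResidueField x
  let W := pullback i p
  have hWE : WeaklyEtale p := Sga1.UlaSL.weaklyEtale_of_isStrictLoc hp
  have haff : IsAffineHom (pullback.snd i p) := inferInstance
  have hW : IsAffine W := isAffine_of_isAffineHom (pullback.snd i p)
  let e : Spec Γ(W, ⊤) ≅ W := W.isoSpec.symm
  obtain ⟨φ, hφ⟩ := Spec.map_surjective (e.hom ≫ pullback.fst i p)
  have hwe1 : WeaklyEtale (pullback.fst i p) := inferInstance
  have hwe2 : WeaklyEtale (Spec.map φ) := by
    rw [hφ]
    infer_instance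
  let _ : Algebra (X.residueField x) Γ(W, ⊤) := φ.hom.toAlgebra
  have h3 : Algebra.WeaklyEtale (X.residueField x) Γ(W, ⊤) :=
    (Proet.WEtaleScheme.weaklyEtale_Spec_map_iff φ).1 hwe2
  refine ⟨Γ(W, ⊤), inferInstance, inferInstance, e.hom ≫ pullback.snd i p,
    WeField.isIntegral_of_weaklyEtale _ _, ?_⟩
  have h4 : IsPullback (e.hom ≫ pullback.fst i p) (e.hom ≫ pullback.snd i p) i p :=
    (IsPullback.of_hasPullback i p).of_iso e.symm (Iso.refl _) (Iso.refl _) (Iso.refl _)
      (by simp [W]) (by simp [W]) (by simp) (by simp)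
  rw [← hφ] at h4
  exact h4

variable {X : Scheme.{u}} (f : X ⟶ Spec (CommRingCat.of (ULift.{u} ℤ)))

/-- Vanishing of the stalks of `R^q i_{x*} G`. -/
theorem not_mem_supp (x y : X) [CharZero (X.residueField x)] [Module.Finite ℚ (X.residueField x)]
    {ℓ : ℕ} (hℓ : ℓ ≠ 0) (G : EtCoh.Ab (Spec (X.residueField x))) (hG : Dix.IsPrimaryTorsion ℓ G)
    (q : ℕ) (hq : 2 ≤ q ∨ (1 ≤ q ∧ (f y).asIdeal = ⊥)) :
    y ∉ EtPBC.supp ((EtCoh.Rpush (X.fromSpecResidueField x) q).obj G) := by
  obtain ⟨R, _, _, _, _, hR, -⟩ :=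
    Groth.Agent.Hensel.Exist.exists_isStrictHenselization (R := X.presheaf.stalk y)
  have hp := isStrictLoc_specOf X y R
  have hpt := Groth.Agent.Etrest.VCBaseChange.specOf_closedPoint X y R
  obtain ⟨B, _, _, f', hB, hpb⟩ := exists_ring X x hp
  have key := H216.StrictLocEt.not_mem_supp_Rpush_iff_isStrictLoc (X.fromSpecResidueField x) hp hpb G q
  rw [hpt] at key
  rw [key]
  have hG' := H227.CdIso.isPrimaryTorsion_pull ℓ
    (Spec.map (CommRingCat.ofHom (algebraMap (X.residueField x) B)) :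
        Spec (CommRingCat.of B) ⟶ Spec (X.residueField x)) G hG
  rcases subsingleton_or_nontrivial B with hB0 | hB0
  · have hE : IsEmpty (Spec (CommRingCat.of B)) := inferInstanceAs (IsEmpty (PrimeSpectrum B))
    exact cohDimLEAt_of_isEmpty (Spec (CommRingCat.of B)) ℓ 0 _ hG' q (by omega)
  obtain ⟨A, _, _, _, hA1, hA2, hA3, ⟨ψ⟩⟩ := StrictZ.exists_map f y R
  let _ : Algebra ℚ B := ((algebraMap (X.residueField x) B).comp
    (algebraMap ℚ (X.residueField x))).toAlgebra
  have : IsScalarTower ℚ (X.residueField x) B := IsScalarTower.of_algebraMap_eq' rfl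
  have hint : Algebra.IsIntegral ℚ (X.residueField x) := inferInstance
  have hint' : Algebra.IsIntegral ℚ B := Algebra.IsIntegral.trans (X.residueField x)
  obtain ⟨φ, -⟩ := Spec.map_surjective f'
  have hfield : IsField A ∨ (IsDiscreteValuationRing A ∧ ∃ n : ℤ, n ≠ 0 ∧ (n : A) ∈ maximalIdeal A) :=
    hA3.imp_right fun h => ⟨h.2.1, h.2.2⟩
  obtain ⟨h1, h0⟩ := IntCore.cohDimLEAt_core A B hA1 hA2 (φ.hom.comp ψ) hfield ℓ hℓ
  rcases hq with hq | ⟨hq, hy⟩
  · exact h1 _ hG' q (by omega)
  · have hAF : IsField A := hA3.resolve_right fun h => h.1 hy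
    exact h0 hAF _ hG' q (by omega)

end Groth.Agent.Etbc.H236.RpushVan
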