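import Groth.Agent.Etbc.H236.NormSurj
import Groth.Prelude.Def_Dix
import Mathlib.RingTheory.Algebraic.Integral
import Mathlib.RingTheory.RootsOfUnity.AlgebraicallyClosed

/-!
# `cd_ℓ ≤ 2` for number fields: assembly

`cd_numberField`: conditional assembly of the theorem `cd_ℓ(K) ≤ 2` for a number field `K` (not orderable if
`ℓ = 2`) from
* `hE`: over algebraic extensions of `ℚ` containing `μ_{ℓ^∞}` all norm groups are everything,
* `NF4`: surjectivity of norms in degree `ℓ` implies `cd_ℓ ≤ 1`,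
* `NF5`: passage from `K(μ_{ℓ^∞})` to `K` raises `cd_ℓ` by at most one,
* `Serre`: Serre's theorem on finite extensions.
-/

set_option autoImplicit false
universe u
open Polynomial AlgebraicGeometry CategoryTheory

namespace Groth.Agent.Etbc.H236.G2Cond

open Groth.Agent.Etbc.H226.NFDefs Groth.Agent.Etbc.H214.NormGroup

/-- statement of NF4 -/
def NF4 : Prop :=
  ∀ (K : Type u) [Field K] [CharZero K] (p : ℕ) [Fact p.Prime] (_ : ∃ ζ : K, IsPrimitiveRoot ζ p)
    (_ : ∀ (E M : Type u) [Field E] [Field M] [Algebra K E] [FiniteDimensional K E] [Algebra E M]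
      [FiniteDimensional E M] [IsGalois E M], Module.finrank E M = p →
        Function.Surjective (Algebra.norm E : M → E)),
    Dix.CohDimLEAt (Spec (CommRingCat.of K)) p 1

/-- statement of NF5 -/
def NF5 : Prop :=
  ∀ (p : ℕ) [Fact p.Prime] (d : ℕ) (K Kinf : Type u) [Field K] [CharZero K] [Field Kinf]
    [Algebra K Kinf] (_ : ∃ ζ : K, IsPrimitiveRoot ζ p) (_ : ∃ i : K, i ^ 2 = -1)
    (_ : ∀ n : ℕ, ∃ ζ : Kinf, IsPrimitiveRoot ζ (p ^ n))
    (_ : IntermediateField.adjoin K {z : Kinf | ∃ n : ℕ, z ^ (p ^ n) = 1} = ⊤)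
    (_ : Dix.CohDimLEAt (Spec (CommRingCat.of Kinf)) p d),
    Dix.CohDimLEAt (Spec (CommRingCat.of K)) p (d + 1)

/-- Serre's theorem for finite extensions of fields -/
def Serre : Prop :=
  ∀ (k k' : Type u) [Field k] [Field k'] [Algebra k k'] [FiniteDimensional k k'] (l : ℕ) (_ : l.Prime)
    (_ : (l : k) ≠ 0) (d : ℕ) (_ : Dix.CohDimLEAt (Spec (CommRingCat.of k')) l d)
    (_ : l ≠ 2 ∨ ¬ ∃ _ : LinearOrder k, IsStrictOrderedRing k),
    Dix.CohDimLEAt (Spec (CommRingCat.of k)) l d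

/-- The tower `K ⊆ K' ⊆ K_∞`. -/
theorem exists_tower (K : Type u) [Field K] [CharZero K] (ℓ : ℕ) [Fact ℓ.Prime] :
    ∃ (K' Kinf : Type u) (_ : Field K') (_ : Field Kinf) (_ : Algebra K K') (_ : Algebra K' Kinf)
      (_ : Algebra K Kinf) (_ : IsScalarTower K K' Kinf),
      FiniteDimensional K K' ∧ CharZero K' ∧ CharZero Kinf ∧ (∃ ζ : K', IsPrimitiveRoot ζ ℓ) ∧
      (∃ i : K', i ^ 2 = -1) ∧ (∀ n : ℕ, ∃ ζ : Kinf, IsPrimitiveRoot ζ (ℓ ^ n)) ∧
      IntermediateField.adjoin K' {z : Kinf | ∃ n : ℕ, z ^ (ℓ ^ n) = 1} = ⊤ ∧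
      Algebra.IsAlgebraic K Kinf := by
  let Ω := AlgebraicClosure K
  have hℓ0 : ℓ ≠ 0 := (Fact.out : ℓ.Prime).ne_zero
  have hΩ : CharZero Ω := charZero_of_injective_algebraMap (algebraMap K Ω).injective
  have hprim : ∀ m : ℕ, m ≠ 0 → ∃ ζ : Ω, IsPrimitiveRoot ζ m := by
    intro m hm
    have : NeZero (m : Ω) := ⟨by exact_mod_cast hm⟩
    exact (HasEnoughRootsOfUnity.prim (M := Ω) (n := m))
  obtain ⟨ζ, hζ⟩ := hprim ℓ hℓ0
  obtain ⟨i, hi⟩ := IsAlgClosed.exists_pow_nat_eq (-1 : Ω) (n := 2) (by norm_num)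
  let K' : IntermediateField K Ω := IntermediateField.adjoin K {ζ, i}
  have hζ' : ζ ∈ K' := IntermediateField.subset_adjoin K _ (by simp)
  have hi' : i ∈ K' := IntermediateField.subset_adjoin K _ (by simp)
  have hfin : FiniteDimensional K K' :=
    IntermediateField.finiteDimensional_adjoin fun x _ => Algebra.IsIntegral.isIntegral x
  let S : Set Ω := {z : Ω | ∃ n : ℕ, z ^ (ℓ ^ n) = 1}
  let Kinf : IntermediateField K' Ω := IntermediateField.adjoin K' S
  have hSK : S ⊆ Kinf := IntermediateField.subset_adjoin K' S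
  refine ⟨K', Kinf, inferInstance, inferInstance, inferInstance, inferInstance, inferInstance,
    inferInstance, hfin, charZero_of_injective_algebraMap (algebraMap K K').injective,
    charZero_of_injective_algebraMap (algebraMap K Kinf).injective, ⟨⟨ζ, hζ'⟩, ?_⟩, ⟨⟨i, hi'⟩, ?_⟩,
    ?_, ?_, ?_⟩
  · exact IsPrimitiveRoot.of_map_of_injective (f := algebraMap K' Ω) hζ (algebraMap K' Ω).injective
  · apply Subtype.ext
    simpa using hi
  · intro n
    obtain ⟨η, hη⟩ := hprim (ℓ ^ n) (pow_ne_zero n hℓ0)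
    have hη' : η ∈ Kinf := hSK ⟨n, hη.pow_eq_one⟩
    exact ⟨⟨η, hη'⟩, IsPrimitiveRoot.of_map_of_injective (f := algebraMap Kinf Ω) hη
      (algebraMap Kinf Ω).injective⟩
  · apply (IntermediateField.map_injective Kinf.val)
    rw [IntermediateField.adjoin_map, ← AlgHom.fieldRange_eq_map, IntermediateField.fieldRange_val]
    have himg : (Kinf.val '' {z : Kinf | ∃ n : ℕ, z ^ (ℓ ^ n) = 1}) = S := by
      ext z
      constructor
      · rintro ⟨w, ⟨n, hn⟩, rfl⟩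
        refine ⟨n, ?_⟩
        rw [← map_pow, hn, map_one]
      · rintro ⟨n, hn⟩
        refine ⟨⟨z, hSK ⟨n, hn⟩⟩, ⟨n, ?_⟩, rfl⟩
        apply Subtype.ext
        simpa using hn
    rw [himg]
  · refine ⟨fun x => ?_⟩
    have h1 : IsAlgebraic K ((x : Kinf) : Ω) := Algebra.IsAlgebraic.isAlgebraic _
    exact (isAlgebraic_algHom_iff (Kinf.val.restrictScalars K) (Subtype.val_injective)).1 h1

theorem cd_numberField (h4 : NF4.{u}) (h5 : NF5.{u}) (hS : Serre.{u})
    (K : Type u) [Field K] [CharZero K] [Module.Finite ℚ K] (ℓ : ℕ) [Fact ℓ.Prime]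
    (hord : ℓ ≠ 2 ∨ ¬ ∃ _ : LinearOrder K, IsStrictOrderedRing K)
    (h : ∀ (E : Type u) [Field E] [CharZero E] [Algebra.IsAlgebraic ℚ E],
      (∀ n, ∃ ζ : E, IsPrimitiveRoot ζ (ℓ ^ n)) → ∀ b : Eˣ, normGroup ℓ (b : E) = ⊤) :
    Dix.CohDimLEAt (Spec (CommRingCat.of K)) ℓ 2 := by
  obtain ⟨K', Kinf, _, _, _, _, _, _, hfin, _, _, hζ, hi, hroots, hgen, halg⟩ := exists_tower K ℓ
  have hℓ0 : ℓ ≠ 0 := (Fact.out : ℓ.Prime).ne_zero
  refine hS K K' ℓ Fact.out (by exact_mod_cast hℓ0) 2 ?_ hord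
  refine h5 ℓ 1 K' Kinf hζ hi hroots hgen ?_
  have hζ1 : ∃ ζ : Kinf, IsPrimitiveRoot ζ ℓ := by
    simpa using hroots 1
  refine h4 Kinf ℓ hζ1 ?_
  intro E M _ _ _ _ _ _ _ hdeg
  have : CharZero E := charZero_of_injective_algebraMap (algebraMap Kinf E).injective
  have hKQ : Algebra.IsAlgebraic ℚ K := inferInstance
  have h1 : IsScalarTower ℚ K Kinf := inferInstance
  have h2 : Algebra.IsAlgebraic ℚ Kinf := Algebra.IsAlgebraic.trans ℚ K Kinf
  have h3 : Algebra.IsAlgebraic Kinf E := inferInstance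
  have h6 : IsScalarTower ℚ Kinf E := inferInstance
  have h7 : Algebra.IsAlgebraic ℚ E := Algebra.IsAlgebraic.trans ℚ Kinf E
  have hr : ∀ n, ∃ ζ : E, IsPrimitiveRoot ζ (ℓ ^ n) := by
    intro n
    obtain ⟨ζ, hζ⟩ := hroots n
    exact ⟨algebraMap Kinf E ζ, hζ.map_of_injective (algebraMap Kinf E).injective⟩
  refine NormSurj.norm_surjective E M ℓ (by simpa using hr 1) hdeg (h E hr)

end Groth.Agent.Etbc.H236.G2Cond
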