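import Groth.Agent.Etbc.H236.G2Cond
import Groth.Agent.Etbc.H251.NormCd
import Groth.Agent.Etbc.H231.CycCd
import Groth.Agent.Etbc.H201.Serre
import Groth.Agent.Etbc.H191.NfFinal

/-!
# `cd_ℓ ≤ 2` for number fields, from the Hasse norm theorem
-/

set_option autoImplicit false
universe u
open Polynomial AlgebraicGeometry CategoryTheory

namespace Groth.Agent.Etbc.H236.NFCd

theorem nf4 : G2Cond.NF4.{u} := fun K _ _ p _ hprim h =>
  Groth.Agent.Etbc.H251.NormCd.cohDimLEAt_one_of_norm K p hprim h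

theorem nf5 : G2Cond.NF5.{u} := fun p _ d K Kinf _ _ _ _ hprim h4 hroots hgen hcd =>
  Groth.Agent.Etbc.H231.CycCd.cohDimLEAt_succ_of_cyclotomic p d K Kinf hprim h4 hroots hgen hcd

theorem serre : G2Cond.Serre.{u} := fun k k' _ _ _ _ l hl hlk d h hord =>
  Groth.Agent.Etbc.H201.Serre.serre_finite k k' l hl hlk d h hord

/-- `cd_ℓ(K) ≤ 2` for a number field `K` (not orderable if `ℓ = 2`), from the Hasse norm theorem for Kummer
extensions of degree `ℓ`. -/
theorem cd_numberField_of_D2 (ℓ : ℕ) [Fact ℓ.Prime] (h2 : H191.NfE.D2Stmt.{u} ℓ)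
    (K : Type u) [Field K] [CharZero K] [Module.Finite ℚ K]
    (hord : ℓ ≠ 2 ∨ ¬ ∃ _ : LinearOrder K, IsStrictOrderedRing K) :
    Dix.CohDimLEAt (Spec (CommRingCat.of K)) ℓ 2 :=
  G2Cond.cd_numberField nf4 nf5 serre K ℓ hord
    (fun E _ _ _ h b => H191.NfFinal.E_of_D2 ℓ h2 E h b)

end Groth.Agent.Etbc.H236.NFCd
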