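import Groth.Agent.Etbc.H214.NormGroup
import Mathlib.FieldTheory.KummerExtension
import Mathlib.FieldTheory.IsAlgClosed.AlgebraicClosure
import Mathlib.NumberTheory.NumberField.Basic

/-!
# Surjectivity of norms of cyclic extensions of prime degree from the norm groups of Kummer extensions

* `norm_surjective`: if `E` contains the `ℓ`-th roots of unity and `normGroup ℓ b = ⊤` for all `b`, the norm of
  every Galois extension of `E` of degree `ℓ` is surjective;
* `exists_tower`: the fields `K ⊆ K(ζ_ℓ, i) ⊆ K(ζ_ℓ, i)(μ_{ℓ^∞})`.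
-/

set_option autoImplicit false
universe u
open Polynomial

namespace Groth.Agent.Etbc.H236.NormSurj

open Groth.Agent.Etbc.H226.NFDefs Groth.Agent.Etbc.H214.NormGroup

theorem norm_surjective (E M : Type u) [Field E] [Field M] [Algebra E M] [FiniteDimensional E M]
    [IsGalois E M] (ℓ : ℕ) [Fact ℓ.Prime] (hζ : ∃ ζ : E, IsPrimitiveRoot ζ ℓ)
    (hdeg : Module.finrank E M = ℓ) (h : ∀ b : Eˣ, normGroup ℓ (b : E) = ⊤) :
    Function.Surjective (Algebra.norm E : M → E) := by
  intro a
  by_cases ha : a = 0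
  · exact ⟨0, by rw [ha, Algebra.norm_zero]⟩
  have hcyc : IsCyclic Gal(M/E) := isCyclic_of_prime_card (p := ℓ) (by
    rw [IsGalois.card_aut_eq_finrank, hdeg])
  obtain ⟨ζ, hζ'⟩ := hζ
  have hne : (primitiveRoots (Module.finrank E M) E).Nonempty := by
    rw [hdeg]
    exact ⟨ζ, (mem_primitiveRoots (Fact.out : ℓ.Prime).pos).2 hζ'⟩
  obtain ⟨α, ⟨b, hb⟩, hα⟩ := exists_root_adjoin_eq_top_of_isCyclic E M hne
  rw [hdeg] at hb
  have hb' : ∀ c : E, c ^ ℓ ≠ b := by
    intro c hc
    have h1 : α ∈ (algebraMap E M).range := by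
      by_cases hc0 : c = 0
      · have h2 : α ^ ℓ = 0 := by
          rw [← hb, ← hc, hc0, zero_pow (Fact.out : ℓ.Prime).ne_zero, map_zero]
        rw [pow_eq_zero_iff (Fact.out : ℓ.Prime).ne_zero] at h2
        exact ⟨0, by rw [h2, map_zero]⟩
      · have h2 : (α / algebraMap E M c) ^ ℓ = 1 := by
          rw [div_pow, ← map_pow, hc, hb, div_self]
          rw [← hb, ← hc, map_pow]
          exact pow_ne_zero _ ((_root_.map_ne_zero _).2 hc0)
        obtain ⟨i, -, hi⟩ := (hζ'.map_of_injective (algebraMap E M).injective).eq_pow_of_pow_eq_one h2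
        refine ⟨ζ ^ i * c, ?_⟩
        rw [map_mul, map_pow, hi, div_mul_cancel₀]
        exact (_root_.map_ne_zero _).2 hc0
    have h3 : IntermediateField.adjoin E {α} = ⊥ := by
      rw [IntermediateField.adjoin_simple_eq_bot_iff]
      obtain ⟨x, hx⟩ := h1
      exact ⟨x, hx⟩
    have h4 : Module.finrank E M = 1 := by
      rw [← IntermediateField.finrank_top', ← hα, h3, IntermediateField.finrank_bot]
    rw [hdeg] at h4
    exact (Fact.out : ℓ.Prime).one_lt.ne' h4
  have hb0 : b ≠ 0 := by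
    rintro rfl
    exact hb' 0 (zero_pow (Fact.out : ℓ.Prime).ne_zero)
  have h1 := h (Units.mk0 b hb0)
  have h2 : Units.mk0 a ha ∈ normGroup ℓ ((Units.mk0 b hb0 : Eˣ) : E) := by
    rw [h1]
    trivial
  obtain ⟨x, hx⟩ := (mem_normGroup_iff_of_field hdeg b hb' α hb.symm (Units.mk0 a ha)).1 h2
  exact ⟨x, hx⟩

end Groth.Agent.Etbc.H236.NormSurj
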