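import Groth.Agent.Etbc.H236.NFCd
import Groth.Agent.Etbc.H224.Hasse3

/-!
# `cd_ℓ ≤ 2` for number fields (totally imaginary if `ℓ = 2`)
-/

set_option autoImplicit false
universe u
open AlgebraicGeometry CategoryTheory

namespace Groth.Agent.Etbc.H236.NumberField

/-- `cd_ℓ(K) ≤ 2` for a number field `K`, not orderable if `ℓ = 2`. -/
theorem cd_numberField (K : Type u) [Field K] [CharZero K] [Module.Finite ℚ K] (ℓ : ℕ) (hℓ : ℓ.Prime)
    (hord : ℓ ≠ 2 ∨ ¬ ∃ _ : LinearOrder K, IsStrictOrderedRing K) :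
    Dix.CohDimLEAt (Spec (CommRingCat.of K)) ℓ 2 := by
  haveI : Fact ℓ.Prime := ⟨hℓ⟩
  exact NFCd.cd_numberField_of_D2 ℓ
    (fun K _ _ _ hζ a b h => Groth.Agent.Etbc.H224.Hasse3.D2 ℓ hζ a b h) K hord

end Groth.Agent.Etbc.H236.NumberField
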