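import Mathlib.AlgebraicGeometry.Morphisms.QuasiFinite
import Mathlib.AlgebraicGeometry.Morphisms.FiniteType
import Mathlib.AlgebraicGeometry.ResidueField
import Mathlib.FieldTheory.Perfect
import Mathlib.LinearAlgebra.FreeModule.IdealQuotient

/-!
# Residue fields of schemes quasi-finite over the integers

* `finite_residueField_of_ne_bot`, `charZero_residueField`, `finite_rat_residueField`: residue fields of
  `ULift ℤ`;
* `finite_residueFieldMap`: a locally quasi-finite morphism induces finite residue field extensions.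
-/

set_option autoImplicit false
universe u
open CategoryTheory CategoryTheory.Limits AlgebraicGeometry Opposite

namespace Groth.Agent.Etbc.H236.ResZ

instance isDomain_uliftInt : IsDomain (ULift.{u} ℤ) :=
  MulEquiv.isDomain ℤ (ULift.ringEquiv : ULift.{u} ℤ ≃+* ℤ).toMulEquiv

instance isPrincipalIdealRing_uliftInt : IsPrincipalIdealRing (ULift.{u} ℤ) :=
  IsPrincipalIdealRing.of_surjective (ULift.ringEquiv : ULift.{u} ℤ ≃+* ℤ).symm.toRingHom
    (ULift.ringEquiv : ULift.{u} ℤ ≃+* ℤ).symm.surjective

theorem finite_residueField_of_ne_bot (P : Ideal (ULift.{u} ℤ)) [P.IsPrime] (h : P ≠ ⊥) :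
    Finite P.ResidueField := by
  have hfree : Module.Free ℤ (ULift.{u} ℤ) := inferInstance
  have hfin : Module.Finite ℤ (ULift.{u} ℤ) := inferInstance
  have hq : Finite (ULift.{u} ℤ ⧸ P) := Ideal.finiteQuotientOfFreeOfNeBot P h
  have hmax : P.IsMaximal := Ideal.Quotient.maximal_of_isField P (Finite.isField_of_domain _)
  have hb := Ideal.bijective_algebraMap_quotient_residueField P
  exact Finite.of_surjective _ hb.2

theorem charZero_residueField (P : Ideal (ULift.{u} ℤ)) [P.IsPrime] (h : P = ⊥) :
    CharZero P.ResidueField := by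
  refine ⟨fun a b hab => ?_⟩
  have h1 : algebraMap (ULift.{u} ℤ) P.ResidueField ((a : ULift.{u} ℤ) - (b : ULift.{u} ℤ)) = 0 := by
    rw [map_sub, map_natCast, map_natCast, hab, sub_self]
  rw [Ideal.algebraMap_residueField_eq_zero, h, Ideal.mem_bot, sub_eq_zero] at h1
  have h2 := congrArg ULift.down h1
  simpa using h2

theorem surjective_rat (P : Ideal (ULift.{u} ℤ)) [P.IsPrime] [CharZero P.ResidueField] :
    Function.Surjective (algebraMap ℚ P.ResidueField) := by
  intro z
  obtain ⟨a, b, hb, rfl⟩ := IsFractionRing.div_surjective (A := ULift.{u} ℤ ⧸ P) z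
  obtain ⟨a, rfl⟩ := Ideal.Quotient.mk_surjective a
  obtain ⟨b, rfl⟩ := Ideal.Quotient.mk_surjective b
  have key : ∀ c : ULift.{u} ℤ, algebraMap (ULift.{u} ℤ ⧸ P) P.ResidueField (Ideal.Quotient.mk P c) =
      algebraMap ℚ P.ResidueField (c.down : ℚ) := by
    intro c
    rw [map_intCast]
    have hc : c = ((c.down : ℤ) : ULift.{u} ℤ) := by
      apply ULift.down_injective
      simp
    conv_lhs => rw [hc]
    rw [map_intCast, map_intCast]
  refine ⟨(a.down : ℚ) / (b.down : ℚ), ?_⟩
  rw [map_div₀, ← key, ← key]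

theorem finite_rat_residueField (P : Ideal (ULift.{u} ℤ)) [P.IsPrime] [CharZero P.ResidueField] :
    Module.Finite ℚ P.ResidueField :=
  Module.Finite.of_surjective (Algebra.linearMap ℚ P.ResidueField) (surjective_rat P)

theorem finite_residueFieldMap {X Y : Scheme.{u}} (f : X ⟶ Y) [LocallyQuasiFinite f] (x : X) :
    (f.residueFieldMap x).hom.Finite := by
  have h1 : LocallyQuasiFinite (Spec.map (f.residueFieldMap x) ≫ Y.fromSpecResidueField (f x)) := by
    rw [f.SpecMap_residueFieldMap_fromSpecResidueField]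
    infer_instance
  have h2 : LocallyQuasiFinite (Spec.map (f.residueFieldMap x)) :=
    LocallyQuasiFinite.of_comp _ (Y.fromSpecResidueField (f x))
  have h3 : IsLocallyArtinian (Spec (Y.residueField (f x))) := inferInstance
  have h4 : IsFinite (Spec.map (f.residueFieldMap x)) := IsFinite.of_locallyQuasiFinite _
  rwa [IsFinite.SpecMap_iff] at h4

end Groth.Agent.Etbc.H236.ResZ
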