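import Groth.Agent.Etbc.H236.ResZ
import Groth.Agent.Sga4h.UlaDvr
import Groth.Agent.Etbc.H232.SHFactor

/-!
# Strict henselizations of the local rings of `Spec ℤ`

`exists_map`: for `f : X → Spec ℤ` and a strict henselization `R` of `𝒪_{X, y}` there is a ring map `A → R` with
`A` a strictly henselian discrete valuation ring with algebraically closed residue field, or an algebraically
closed field (the latter if `f y` is the generic point).
-/

set_option autoImplicit false
universe u
open CategoryTheory CategoryTheory.Limits AlgebraicGeometry Opposite IsLocalRing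

namespace Groth.Agent.Etbc.H236.StrictZ

open Groth.Agent.Etbc.H236.ResZ

/-- residue fields of `Spec ℤ` are perfect -/
theorem perfectField_residueField (z : Spec (CommRingCat.of (ULift.{u} ℤ))) :
    PerfectField (ResidueField ((Spec (CommRingCat.of (ULift.{u} ℤ))).presheaf.stalk z)) := by
  let e := (Scheme.Spec.residueFieldIso (CommRingCat.of (ULift.{u} ℤ)) z).commRingCatIsoToRingEquiv
  have hp : z.asIdeal.IsPrime := z.isPrime
  have h : PerfectField (CommRingCat.of z.asIdeal.ResidueField) := by
    change PerfectField z.asIdeal.ResidueField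
    by_cases hz : z.asIdeal = ⊥
    · have := charZero_residueField z.asIdeal hz
      infer_instance
    · have := finite_residueField_of_ne_bot z.asIdeal hz
      infer_instance
  exact PerfectField.of_ringEquiv e.symm

variable {X : Scheme.{u}} (f : X ⟶ Spec (CommRingCat.of (ULift.{u} ℤ))) (y : X)

theorem exists_map (R : Type u) [CommRing R] [IsLocalRing R] [Algebra (X.presheaf.stalk y) R]
    [IsLocalHom (algebraMap (X.presheaf.stalk y) R)]
    [Hensel.IsStrictHenselization (X.presheaf.stalk y) R] :
    ∃ (A : Type u) (_ : CommRing A) (_ : IsDomain A) (_ : IsLocalRing A),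
      HenselianLocalRing A ∧ IsAlgClosed (ResidueField A) ∧
      (IsField A ∨ ((f y).asIdeal ≠ ⊥ ∧ IsDiscreteValuationRing A ∧
        ∃ n : ℤ, n ≠ 0 ∧ (n : A) ∈ maximalIdeal A)) ∧ Nonempty (A →+* R) := by
  let z := f y
  have hzp : z.asIdeal.IsPrime := z.isPrime
  let S := (Spec (CommRingCat.of (ULift.{u} ℤ))).presheaf.stalk z
  obtain ⟨A, _, _, _, _, hA, -⟩ :=
    Groth.Agent.Hensel.Exist.exists_isStrictHenselization (R := S)
  obtain ⟨ψ, -, -⟩ := Groth.Agent.Etbc.H232.SHFactor.exists_above (f.stalkMap y).hom A R
  obtain ⟨hreg, hdim⟩ := Sga4h.UlaDvr.regular_spec_pid (ULift.{u} ℤ) z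
  have hperf := perfectField_residueField z
  have hsep := hA.isSepClosure.separable
  have hcl := hA.isSepClosure.sep_closed
  have hperf' : PerfectField (ResidueField A) :=
    Algebra.IsAlgebraic.perfectField (K := ResidueField S) (L := ResidueField A)
  have hac : IsAlgClosed (ResidueField A) := inferInstance
  have hR : IsRegularLocalRing A := (Groth.Agent.S2743.result S A).2 hreg
  have hdR : ringKrullDim A = ringKrullDim S := Groth.Agent.S0541.result S A
  have hdom : IsDomain A := Groth.Agent.Ega2.RegLow.isDomain A (hdR.le.trans hdim)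
  refine ⟨A, inferInstance, hdom, inferInstance, hA.henselian, hac, ?_, ⟨ψ⟩⟩
  by_cases h0 : ringKrullDim S ≤ 0
  · left
    have : Ring.KrullDimLE 0 A := (Ring.krullDimLE_iff).2 (by
      rw [hdR]; exact_mod_cast h0)
    exact Ring.KrullDimLE.isField_of_isDomain
  · right
    let k : Algebra (ULift.{u} ℤ) S := StructureSheaf.stalkAlgebra (ULift.{u} ℤ) z
    have h1 : IsLocalization.AtPrime S z.asIdeal :=
      StructureSheaf.IsLocalization.to_stalk (CommRingCat.of (ULift.{u} ℤ)) z
    have hz : z.asIdeal ≠ ⊥ := by
      intro hz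
      apply h0
      have h2 : IsLocalization (nonZeroDivisors (ULift.{u} ℤ)) S := by
        have : z.asIdeal.primeCompl = nonZeroDivisors (ULift.{u} ℤ) := by
          ext r
          rw [Ideal.mem_primeCompl_iff, hz, Ideal.mem_bot, mem_nonZeroDivisors_iff_ne_zero]
        rw [← this]
        exact h1
      have h3 : IsFractionRing (ULift.{u} ℤ) S := h2
      have h4 : IsField S := (IsFractionRing.toField (ULift.{u} ℤ) (K := S)).toIsField
      exact (ringKrullDim_eq_zero_of_isField h4).le
    refine ⟨hz, Sga4h.X144Geo1.isDiscreteValuationRing A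
      (hdR.trans (Sga4h.X144Geo1.dim_eq_one hdim h0)), ?_⟩
    obtain ⟨r, hr, hr0⟩ := Submodule.exists_mem_ne_zero_of_ne_bot hz
    refine ⟨r.down, fun h => hr0 (ULift.down_injective h), ?_⟩
    have h5 : algebraMap (ULift.{u} ℤ) S r ∈ maximalIdeal S :=
      (IsLocalization.AtPrime.to_map_mem_maximal_iff S z.asIdeal r).2 hr
    have h6 : ((r.down : ℤ) : S) = algebraMap (ULift.{u} ℤ) S r := by
      have hc : r = ((r.down : ℤ) : ULift.{u} ℤ) := by
        apply ULift.down_injective
        simp
      conv_rhs => rw [hc]
      rw [map_intCast]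
    have h7 : algebraMap S A ((r.down : ℤ) : S) ∈ maximalIdeal A := by
      rw [h6, mem_maximalIdeal, mem_nonunits_iff]
      intro hu
      exact (mem_maximalIdeal _).1 h5 (isUnit_of_map_unit (algebraMap S A) _ hu)
    rwa [map_intCast] at h7

end Groth.Agent.Etbc.H236.StrictZ
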